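import Groth.Agent.LocFreeHomLib.Basic
import Groth.Agent.BigSiteLib.Basic
import Groth.Agent.SiteBase.ModCoh
import Groth.Agent.SpSeqLib.AcyclicResolution

/-!
# Ext and finite locally free modules
-/

set_option autoImplicit false
set_option backward.isDefEq.respectTransparency false
set_option linter.style.haveILetI false
universe u

open CategoryTheory Limits Opposite TopologicalSpace AlgebraicGeometry MonoidalCategory Abelian
open Groth.Agent.PullbackMod Groth.Agent.DCohLib Groth.Agent.StalkHomLib
open scoped TensorProduct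

noncomputable section

namespace Groth.Agent.LocFreeHomLib

variable {X : Scheme.{u}} (E : X.Modules) [ModSite.HasSheafHom (O := X.sheaf) E]

/-- Tensoring with `E` on the right. -/
abbrev tE : X.Modules ⥤ X.Modules := (DCoh.tensorBi (X := X)).flip.obj E

theorem preservesMonomorphisms_tE (hE : FlatMod.IsFinLocFree E) : (tE E).PreservesMonomorphisms :=
  ⟨fun {M M'} g _ => (mono_iff_stalk _).2 fun x => by
    obtain ⟨hfree, -⟩ := free_finite_stalk_of_flf hE x
    intro a b hab
    obtain ⟨a, rfl⟩ := (stalkTensor x M E).surjective a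
    obtain ⟨b, rfl⟩ := (stalkTensor x M E).surjective b
    have hab := (stalkTensor_natural_left x g a).symm.trans (hab.trans (stalkTensor_natural_left x g b))
    exact congrArg _ (Module.Flat.rTensor_preserves_injective_linearMap _ ((mono_iff_stalk g).1 ‹_› x)
      ((stalkTensor x M' E).injective hab))⟩

theorem preservesFiniteColimits_hF (hE : FlatMod.IsFinLocFree E) : PreservesFiniteColimits (hF E) := by
  haveI : (tDual E).IsLeftAdjoint := ModTensor.hasSheafHom (O := X.sheaf) (dualE E)
  haveI : PreservesFiniteColimits (tDual E) := inferInstance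
  exact preservesFiniteColimits_of_natIso (tDualIso E hE)

theorem nonempty_ext_hF (hE : FlatMod.IsFinLocFree E) [HasExt.{u} X.Modules] (Z G : X.Modules) (n : ℕ) :
    Nonempty (Ext.{u} Z ((hF E).obj G) n ≃+ Ext.{u} (tmod Z E) G n) := by
  haveI : EnoughInjectives X.Modules := SiteBase.enoughInjectives_sheafOfModules _
  haveI := preservesFiniteColimits_hF E hE
  haveI : ((ModSite.tensorBi X.sheaf).flip.obj E : X.Modules ⥤ X.Modules).PreservesMonomorphisms :=
    preservesMonomorphisms_tE E hE
  haveI : (hF E).Additive := (ModSite.sheafHomAdj (O := X.sheaf) E).right_adjoint_additive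
  exact BigSiteLib.nonempty_ext_equiv (ModSite.sheafHomAdj (O := X.sheaf) E) (Iso.refl _) G n

variable (F : X.Modules) [ModSite.HasSheafHom (O := X.sheaf) F]

theorem nonempty_extSh_tensor (hE : FlatMod.IsFinLocFree E) [ModSite.HasSheafHom (O := X.sheaf) (tmod F E)]
    [HasInjectiveResolutions (ModSite.Mod X.sheaf)] (G : X.Modules) (i : ℕ) :
    Nonempty ((ModSite.extSh (O := X.sheaf) (tmod F E) i).obj G ≅
      tmod ((ModSite.extSh (O := X.sheaf) F i).obj G) (dualE E)) := by
  haveI : HasInjectiveResolutions X.Modules := ‹HasInjectiveResolutions (ModSite.Mod X.sheaf)›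
  haveI : (hF F).Additive := (ModSite.sheafHomAdj (O := X.sheaf) F).right_adjoint_additive
  haveI : (hF E).Additive := (ModSite.sheafHomAdj (O := X.sheaf) E).right_adjoint_additive
  haveI : (hF (tmod F E)).Additive :=
    (ModSite.sheafHomAdj (O := X.sheaf) (tmod F E)).right_adjoint_additive
  haveI := preservesFiniteColimits_hF E hE
  haveI : (hF E).IsRightAdjoint := (ModSite.sheafHomAdj (O := X.sheaf) E).isRightAdjoint
  haveI : PreservesFiniteLimits (hF E) := inferInstance
  let adj₁ : (DCoh.tensorBi (X := X)).flip.obj (tmod F E) ⊣ hF E ⋙ hF F :=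
    ((ModSite.sheafHomAdj (O := X.sheaf) F).comp (ModSite.sheafHomAdj (O := X.sheaf) E)).ofNatIsoLeft
      (ModTensor.tensorAssoc X.sheaf F E)
  haveI : (DCoh.tensorBi (X := X)).flip.obj E |>.IsLeftAdjoint := ModTensor.hasSheafHom (O := X.sheaf) E
  let sw : (DCoh.tensorBi (X := X)).flip.obj E ⋙ (DCoh.tensorBi (X := X)).flip.obj F ≅
      (DCoh.tensorBi (X := X)).flip.obj F ⋙ (DCoh.tensorBi (X := X)).flip.obj E :=
    ModTensor.tensorAssoc X.sheaf E F ≪≫
      (DCoh.tensorBi (X := X)).flip.mapIso (ModTensor.tensComm X.sheaf E F) ≪≫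
      (ModTensor.tensorAssoc X.sheaf F E).symm
  let adj₂ : (DCoh.tensorBi (X := X)).flip.obj (tmod F E) ⊣ hF F ⋙ hF E :=
    ((ModSite.sheafHomAdj (O := X.sheaf) E).comp (ModSite.sheafHomAdj (O := X.sheaf) F)).ofNatIsoLeft
      (sw ≪≫ ModTensor.tensorAssoc X.sheaf F E)
  let c : hF (tmod F E) ≅ hF F ⋙ tDual E :=
    (ModSite.sheafHomAdj (O := X.sheaf) (tmod F E)).rightAdjointUniq adj₂ ≪≫
      Functor.isoWhiskerLeft (hF F) (tDualIso E hE).symm
  haveI : (tDual E).IsLeftAdjoint := ModTensor.hasSheafHom (O := X.sheaf) (dualE E)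
  haveI : PreservesFiniteColimits (tDual E) := inferInstance
  haveI : PreservesFiniteLimits (tDual E) := preservesFiniteLimits_of_natIso (tDualIso E hE).symm
  haveI : (tDual E).Additive := Functor.additive_of_iso (tDualIso E hE).symm
  exact ⟨((SpSeqLib.rightDerivedCongr c i) ≪≫
    SpSeqLib.rightDerivedPostcompIso (hF F) (tDual E) i).app G⟩

end Groth.Agent.LocFreeHomLib
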