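import Groth.Agent.DCohLib.StalkTensor
import Groth.Agent.ModTensor.Sheaf

/-!
# The associativity and unit isomorphisms on pure tensors
-/

set_option autoImplicit false
set_option backward.isDefEq.respectTransparency false
set_option linter.style.haveILetI false
universe u

open CategoryTheory Limits Opposite TopologicalSpace AlgebraicGeometry MonoidalCategory
open Groth.Agent.PullbackMod Groth.Agent.DCohLib Groth.Agent.ModTensor
open scoped TensorProduct

noncomputable section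

namespace Groth.Agent.LocFreeHomLib

variable {X : Scheme.{u}}

/-- Associativity on objects. -/
def assocMap (A G F : X.Modules) : tmod (tmod A G) F ⟶ tmod A (tmod G F) :=
  ((tensorAssoc X.sheaf G F).app A).hom

/-- The unit on objects. -/
def runitMap (A : X.Modules) : tmod A (Coh.structureModule X) ⟶ A :=
  ((tensorUnitRight X.sheaf).app A).hom

theorem assocMap_pairS (A G F : X.Modules) {U : X.Opens} (a : Γ(A, U)) (g : Γ(G, U)) (f : Γ(F, U)) :
    (assocMap A G F).app U (pairS (tmod A G) F (pairS A G a g) f) =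
      pairS A (tmod G F) a (pairS G F g f) := by
  let O := X.sheaf
  let S := shF O
  let PA := pre O A; let PG := pre O G; let PF := pre O F
  let t₀ : Γ(A, U) ⊗[Γ(X, U)] Γ(G, U) := a ⊗ₜ g
  -- the section before the whiskering by the unit
  let z : Γ((S.obj ((PA ⊗ PG) ⊗ PF) : X.Modules), U) :=
    (shUnit O ((PA ⊗ PG) ⊗ PF)).app (op U) (t₀ ⊗ₜ[Γ(X, U)] f)
  have h1 : Scheme.Modules.Hom.app (S.map (shUnit O (PA ⊗ PG) ▷ PF) : (_ : X.Modules) ⟶ _) U z =
      pairS (tmod A G) F (pairS A G a g) f :=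
    (congr(($(shUnit_naturality O (shUnit O (PA ⊗ PG) ▷ PF))).app (op U) (t₀ ⊗ₜ[Γ(X, U)] f))).symm
  have h2 : Scheme.Modules.Hom.app (S.map (α_ PA PG PF).hom ≫ S.map (PA ◁ shUnit O (PG ⊗ PF)) :
      (_ : X.Modules) ⟶ _) U z = pairS A (tmod G F) a (pairS G F g f) := by
    rw [← S.map_comp]
    exact (congr(($(shUnit_naturality O ((α_ PA PG PF).hom ≫ PA ◁ shUnit O (PG ⊗ PF)))).app (op U)
      (t₀ ⊗ₜ[Γ(X, U)] f))).symm
  have h3 : (S.map (shUnit O (PA ⊗ PG) ▷ PF) : (_ : X.Modules) ⟶ _) ≫ assocMap A G F =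
      S.map (α_ PA PG PF).hom ≫ S.map (PA ◁ shUnit O (PG ⊗ PF)) := by
    show S.map (shUnit O (PA ⊗ PG) ▷ PF) ≫
      inv (S.map (shUnit O (PA ⊗ PG) ▷ PF)) ≫ S.map _ ≫ S.map _ = _
    rw [IsIso.hom_inv_id_assoc]
  rw [← h1, ← h2, ← h3]
  rfl

theorem runitMap_pairS (A : X.Modules) {U : X.Opens} (a : Γ(A, U)) (r : Γ(X, U)) :
    (runitMap A).app U (pairS A (Coh.structureModule X) a (show Γ(Coh.structureModule X, U) from r)) = r • a := by
  let O := X.sheaf
  let S := shF O
  let adj := PresheafOfModules.sheafificationAdjunction (𝟙 (ModSite.ringSh O).obj)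
  have h1 : shUnit O (pre O A ⊗ 𝟙_ (PMod O.obj)) ≫
      (preFunctor O).map (S.map (ρ_ (pre O A)).hom ≫ (sheafifyPreIso O A).hom) = (ρ_ (pre O A)).hom := by
    rw [Functor.map_comp, ← Category.assoc, ← shUnit_naturality, Category.assoc]
    exact (congrArg _ (adj.right_triangle_components A)).trans (Category.comp_id _)
  exact congr(($h1).app (op U) (a ⊗ₜ[Γ(X, U)] r : Γ(A, U) ⊗[Γ(X, U)] Γ(X, U)))

theorem assocMap_stalk (A G F : X.Modules) (x : X) (a : A.presheaf.stalk x) (g : G.presheaf.stalk x)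
    (f : F.presheaf.stalk x) :
    stalkLin (assocMap A G F) x (stalkTensor x (tmod A G) F (stalkTensor x A G (a ⊗ₜ g) ⊗ₜ f)) =
      stalkTensor x A (tmod G F) (a ⊗ₜ stalkTensor x G F (g ⊗ₜ f)) := by
  obtain ⟨U, hxU, a, rfl⟩ := TopCat.Presheaf.exists_germ_eq A.presheaf a
  obtain ⟨V, hxV, g, f, rfl, rfl⟩ := exists_common_germ x g f
  have hW : x ∈ U ⊓ V := ⟨hxU, hxV⟩
  rw [← TopCat.Presheaf.germ_res_apply A.presheaf (homOfLE (inf_le_left : U ⊓ V ≤ U)) x hW a,
    ← TopCat.Presheaf.germ_res_apply G.presheaf (homOfLE (inf_le_right : U ⊓ V ≤ V)) x hW g,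
    ← TopCat.Presheaf.germ_res_apply F.presheaf (homOfLE (inf_le_right : U ⊓ V ≤ V)) x hW f]
  show stalkLin _ x (stalkTensorHom x (stalkTensorHom x _ ⊗ₜ _)) = stalkTensorHom x (_ ⊗ₜ stalkTensorHom x _)
  rw [stalkTensorHom_tmul, stalkTensorHom_tmul, stalkTensorHom_tmul, stalkTensorHom_tmul]
  exact (stalkLin_germ _ _ _ _).trans (congrArg _ (assocMap_pairS A G F _ _ _))

/-- The germ of `1`. -/
def one' (x : X) : (Coh.structureModule X).presheaf.stalk x :=
  (Coh.structureModule X).presheaf.germ ⊤ x trivial (1 : Γ(X, ⊤))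

theorem runitMap_stalk (A : X.Modules) (x : X) (a : A.presheaf.stalk x) :
    stalkLin (runitMap A) x (stalkTensor x A (Coh.structureModule X) (a ⊗ₜ one' x)) = a := by
  obtain ⟨U, hx, a, rfl⟩ := TopCat.Presheaf.exists_germ_eq A.presheaf a
  rw [one', ← TopCat.Presheaf.germ_res_apply (Coh.structureModule X).presheaf (homOfLE (le_top : U ≤ ⊤)) x hx]
  show stalkLin _ x (stalkTensorHom x _) = _
  rw [stalkTensorHom_tmul]
  refine (stalkLin_germ _ _ _ _).trans (congrArg _ ((runitMap_pairS A a _).trans ?_))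
  show (X.presheaf.map (homOfLE (le_top : U ≤ ⊤)).op (1 : Γ(X, ⊤))) • a = a
  rw [map_one, one_smul]

end Groth.Agent.LocFreeHomLib
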