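import Groth.Agent.LocFreeHomLib.Coherence
import Groth.Agent.StalkHomLib.ThetaBij
import Groth.Agent.ParaFLib.Stalk
import Groth.Agent.DCohLib.PerfLocFree
import Mathlib.LinearAlgebra.Contraction

/-!
# The internal Hom out of a finite locally free module is tensoring with the dual
-/

set_option autoImplicit false
set_option backward.isDefEq.respectTransparency false
set_option linter.style.haveILetI false
universe u

open CategoryTheory Limits Opposite TopologicalSpace AlgebraicGeometry MonoidalCategory
open Groth.Agent.PullbackMod Groth.Agent.DCohLib Groth.Agent.StalkHomLib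
open scoped TensorProduct

noncomputable section

namespace Groth.Agent.LocFreeHomLib

variable {X : Scheme.{u}} (E : X.Modules) [ModSite.HasSheafHom (O := X.sheaf) E]

theorem theta_bijective_flf (hE : FlatMod.IsFinLocFree E) (N : X.Modules) (x : X) :
    Function.Bijective (theta E N x) := by
  obtain ⟨D, hD, n, hxD, ⟨e⟩⟩ := exists_tilde_iso E hE x
  haveI := (isQCoh_and_isFP_of_isFinLocFree E hE).1
  let eΓ := (moduleSpecΓFunctor (R := Γ(X, D))).mapIso e ≪≫
    ((tilde.toTildeΓNatIso (R := Γ(X, D))).app _).symm
  let e' : Γ(E, D) ≃ₗ[Γ(X, D)] (ULift.{u} (Fin n) →₀ Γ(X, D)) :=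
    (QCohLib.topEquiv E hD).symm.trans eΓ.toLinearEquiv
  haveI : Module.FinitePresentation Γ(X, D) Γ(E, D) := Module.FinitePresentation.of_equiv e'.symm
  exact ⟨theta_injective E N x hD hxD, theta_surjective E N x hD hxD⟩

/-- The dual. -/
abbrev dualE : X.Modules := (hF E).obj (Coh.structureModule X)

/-- Tensoring with the dual on the right. -/
abbrev tDual : X.Modules ⥤ X.Modules := (DCoh.tensorBi (X := X)).flip.obj (dualE E)

/-- The pairing used in the comparison. -/
def pairing (N : X.Modules) : tmod (tmod N (dualE E)) E ⟶ N :=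
  assocMap N (dualE E) E ≫ ((DCoh.tensorBi (X := X)).obj N).map (ev E _) ≫ runitMap N

/-- The comparison map. -/
def alpha (N : X.Modules) : tmod N (dualE E) ⟶ (hF E).obj N :=
  (ModSite.sheafHomAdj (O := X.sheaf) E).homEquiv (tmod N (dualE E)) N (pairing E N)

theorem theta_alpha (N : X.Modules) (x : X) (n : N.presheaf.stalk x) (d : (dualE E).presheaf.stalk x)
    (f : E.presheaf.stalk x) (r : X.presheaf.stalk x)
    (hr : theta E (Coh.structureModule X) x d f = r • one' x) :
    theta E N x (stalkLin (alpha E N) x (stalkTensor x N (dualE E) (n ⊗ₜ d))) f = r • n := by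
  rw [theta_transpose]
  rw [show ((ModSite.sheafHomAdj (O := X.sheaf) E).homEquiv (tmod N (dualE E)) N).symm (alpha E N) =
    pairing E N from Equiv.symm_apply_apply _ _]
  rw [pairing, stalkLin_comp, stalkLin_comp, LinearMap.comp_apply, LinearMap.comp_apply]
  refine (congrArg (fun w => stalkLin (runitMap N) x (stalkLin _ x w)) (assocMap_stalk N (dualE E) E x n d f)).trans ?_
  refine (congrArg (stalkLin (runitMap N) x) (stalkTensor_natural_right x (ev E _) _)).trans ?_
  rw [LinearMap.lTensor_tmul]
  refine (congrArg (fun w => stalkLin (runitMap N) x (stalkTensor x N _ (n ⊗ₜ[X.presheaf.stalk x] w))) hr).trans ?_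
  rw [TensorProduct.tmul_smul, map_smul, map_smul]
  exact congrArg (r • ·) (runitMap_stalk N x n)

theorem alpha_bijective (hE : FlatMod.IsFinLocFree E) (N : X.Modules) (x : X) :
    Function.Bijective (stalkLin (alpha E N) x) := by
  obtain ⟨hfree, hfin⟩ := free_finite_stalk_of_flf hE x
  let R := X.presheaf.stalk x
  let one : R ≃ₗ[R] (Coh.structureModule X).presheaf.stalk x :=
    LinearEquiv.ofBijective (LinearMap.toSpanSingleton R _ (one' x)) (ParaFLib.bijective_oneG x)
  let dd : (dualE E).presheaf.stalk x ≃ₗ[R] Module.Dual R (E.presheaf.stalk x) :=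
    (LinearEquiv.ofBijective _ (theta_bijective_flf E hE (Coh.structureModule X) x)).trans
      (LinearEquiv.congrRight one.symm)
  let eN : (tmod N (dualE E)).presheaf.stalk x ≃ₗ[R] (E.presheaf.stalk x →ₗ[R] N.presheaf.stalk x) :=
    (stalkTensor x N (dualE E)).symm.trans ((TensorProduct.congr (LinearEquiv.refl R _) dd).trans
      ((TensorProduct.comm R _ _).trans (dualTensorHomEquiv (R := R) (M := E.presheaf.stalk x) (N := N.presheaf.stalk x))))
  have key : (theta E N x).comp (stalkLin (alpha E N) x) = eN.toLinearMap := by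
    refine LinearMap.ext fun z => ?_
    obtain ⟨z, rfl⟩ := (stalkTensor x N (dualE E)).surjective z
    induction z using TensorProduct.induction_on with
    | zero => simp only [map_zero]
    | tmul n d =>
      refine LinearMap.ext fun f => ?_
      rw [LinearMap.comp_apply, theta_alpha E N x n d f (dd d f) (one.apply_symm_apply _).symm]
      refine (dualTensorHom_apply (dd d) f n).symm.trans (LinearMap.congr_fun ?_ f)
      refine Eq.trans ?_ (congrArg (fun w => dualTensorHomEquiv R (E.presheaf.stalk x) (N.presheaf.stalk x)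
        (TensorProduct.comm R _ _ (TensorProduct.congr (LinearEquiv.refl R _) dd w)))
        ((stalkTensor x N (dualE E)).symm_apply_apply (n ⊗ₜ[R] d)).symm)
      simp
    | add a b ha hb => simp only [map_add, ha, hb]
  refine (Function.Bijective.of_comp_iff' (theta_bijective_flf E hE N x) _).1 ?_
  rw [← LinearMap.coe_comp, key]
  exact eN.bijective

theorem isIso_alpha (hE : FlatMod.IsFinLocFree E) (N : X.Modules) : IsIso (alpha E N) :=
  (isIso_iff_stalk _).2 fun x => alpha_bijective E hE N x

theorem alpha_natural {N N' : X.Modules} (g : N ⟶ N') :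
    (tDual E).map g ≫ alpha E N' = alpha E N ≫ (hF E).map g := by
  let adj := ModSite.sheafHomAdj (O := X.sheaf) E
  let T := (DCoh.tensorBi (X := X)).flip.obj E
  rw [alpha, alpha]
  refine (adj.homEquiv_naturality_left _ _).symm.trans
    (Eq.trans ?_ (adj.homEquiv_naturality_right _ _))
  refine congrArg (adj.homEquiv _ _) ?_
  have h1 : T.map ((tDual E).map g) ≫ assocMap N' (dualE E) E =
      assocMap N (dualE E) E ≫ ((DCoh.tensorBi (X := X)).flip.obj (tmod (dualE E) E)).map g :=
    (ModTensor.tensorAssoc X.sheaf (dualE E) E).hom.naturality g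
  have h2 : ((DCoh.tensorBi (X := X)).flip.obj (tmod (dualE E) E)).map g ≫
      ((DCoh.tensorBi (X := X)).obj N').map (ev E (Coh.structureModule X)) =
      ((DCoh.tensorBi (X := X)).obj N).map (ev E (Coh.structureModule X)) ≫
        ((DCoh.tensorBi (X := X)).flip.obj (Coh.structureModule X)).map g :=
    (((DCoh.tensorBi (X := X)).map g).naturality (ev E (Coh.structureModule X))).symm
  have h3 : ((DCoh.tensorBi (X := X)).flip.obj (Coh.structureModule X)).map g ≫ runitMap N' =
      runitMap N ≫ g :=
    (ModTensor.tensorUnitRight X.sheaf).hom.naturality g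
  show T.map ((tDual E).map g) ≫ pairing E N' = pairing E N ≫ g
  rw [pairing, pairing, reassoc_of% h1, reassoc_of% h2, h3]
  simp only [Category.assoc]

/-- The internal Hom out of a finite locally free module is tensoring with its dual. -/
def tDualIso (hE : FlatMod.IsFinLocFree E) : tDual E ≅ hF E :=
  NatIso.ofComponents (fun N => haveI := isIso_alpha E hE N; asIso (alpha E N)) fun g => alpha_natural E g

end Groth.Agent.LocFreeHomLib
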